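import Groth.Agent.W7RelPerf.Basic
import Groth.Agent.DQCoh.RelTor
import Groth.Agent.DQCoh.AffineAmp
import Groth.Agent.S2394

/-!
Relative perfectness on an affine scheme and of the complex of modules.
-/

set_option backward.isDefEq.respectTransparency false
set_option backward.isDefEq.respectTransparency.types false
set_option linter.style.haveILetI false
set_option autoImplicit false

universe u

open CategoryTheory Limits AlgebraicGeometry HomologicalComplex
open Groth.Agent.DQCoh Groth.Agent.DRingKP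
open Groth.Agent.W7RelPerf (rsM rsC)

attribute [local instance] HasDerivedCategory.standard

namespace Groth.Agent.RelPerfAffine

variable (R A : Type u) [CommRing R] [CommRing A] [Algebra R A]

local notation "fS" => Spec.map (CommRingCat.ofHom (algebraMap R A))

theorem flatOver_tilde_iff (N : ModuleCat.{u} A) :
    FlatMod.IsFlatOver fS ((tilde.functor (CommRingCat.of A)).obj N) ↔
      Module.Flat R ((rsM R A).obj N) := by
  letI : Module R N := Module.compHom _ (algebraMap R A)
  haveI : IsScalarTower R A N := ⟨fun r x y => by rw [Algebra.smul_def, mul_smul]; rfl⟩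
  exact S2394.result R A N

theorem flat_spec [Module.Flat R A] : Flat fS := by
  rw [HasRingHomProperty.Spec_iff (P := @Flat)]
  exact RingHom.flat_algebraMap_iff.2 inferInstance

/-- forward direction -/
theorem sPerf_tilde [Module.Flat R A] [PreservesFiniteLimits (tilde.functor (CommRingCat.of A))]
    {M : Dual.D A} (h : Dual2.IsRelPerfect R A M) :
    (∀ m : ℤ, DCoh.IsPseudoCoherentD m ((DCoh.tildeD (CommRingCat.of A)).obj M)) ∧
      DCoh.LocHasFiniteRelTorDim fS ((DCoh.tildeD (CommRingCat.of A)).obj M) := by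
  haveI := flat_spec R A
  refine ⟨fun m => (pseudoCoherent_tilde_iff M m).2 (pc_of_pc' h.1 m), ?_⟩
  obtain ⟨P, Q, f, a, c, -, -, hf, hQ, hQf, ⟨e⟩⟩ := W7RelPerf.exists_rep h
  have hr : DCoh.HasRelFlatAmplitudeIn fS a c ((DCoh.tildeD (CommRingCat.of A)).obj M) :=
    ⟨(tCx (R := CommRingCat.of A)).obj Q, fun i hi => (tilde.functor (CommRingCat.of A)).map_isZero (hQ i hi),
      fun i => (flatOver_tilde_iff R A (Q.X i)).2 (hQf i),
      ⟨(tildeToDIso (R := CommRingCat.of A) Q).symm ≪≫ (DCoh.tildeD (CommRingCat.of A)).mapIso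
        ((asIso (DerivedCategory.Q.map f)).symm ≪≫ e)⟩⟩
  rw [locHas_iff]
  exact fun x => ⟨⊤, a, c, trivial, fun y _ => relAmpAt_of_rel hr y⟩

/-- local relative tor dimension on a quasi-compact scheme is uniform -/
theorem exists_uniform {X S : Scheme.{u}} (f : X ⟶ S) [Flat f] [CompactSpace X] {K : DCoh.D X}
    (h : DCoh.LocHasFiniteRelTorDim f K) : ∃ a b : ℤ, ∀ x : X, RelAmpAt f a b K x := by
  classical
  choose V a b hx hV using locHas_iff.1 h
  obtain ⟨t, ht⟩ := isCompact_univ.elim_finite_subcover (fun x : X => (V x : Set X)) (fun x => (V x).2)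
    (fun x _ => Set.mem_iUnion.2 ⟨x, hx x⟩)
  obtain ⟨A₀, hA₀⟩ := (t.image a).bddBelow
  obtain ⟨B₀, hB₀⟩ := (t.image b).bddAbove
  refine ⟨A₀, B₀, fun y => ?_⟩
  obtain ⟨x, hxt, hy⟩ := Set.mem_iUnion₂.1 (ht (Set.mem_univ y))
  obtain ⟨E, h1, h2, h3⟩ := hV x y hy
  have ha := hA₀ (Finset.mem_image_of_mem a hxt)
  have hb := hB₀ (Finset.mem_image_of_mem b hxt)
  exact ⟨E, fun i hi => h1 i (by omega), h2, h3⟩

variable {R A}

/-- tor amplitude of a complex read on the stalks of the associated complex of sheaves -/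
theorem van_stalk [Module.Flat R A] [PreservesFiniteLimits (tilde.functor (CommRingCat.of A))] {M : Dual.D A}
    {a b c : ℤ} {P : DRing.Cx A} (hc : DRing.VanishesAbove P c) (hPR : ∀ i, Module.Flat R ((rsM R A).obj (P.X i)))
    (e : DRing.toD P ≅ M) (x : Spec (CommRingCat.of A))
    (hab : RelAmpAt fS a b ((DCoh.tildeD (CommRingCat.of A)).obj M) x) :
    DRingKP.Van a b (((stA fS x).mapHomologicalComplex (ComplexShape.up ℤ)).obj
      ((tCx (R := CommRingCat.of A)).obj P)) :=
  DRingKP.torVan_rep (DRingKP.torVan_of_amp hab)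
    (fun i hi => (stA fS x).map_isZero ((tilde.functor (CommRingCat.of A)).map_isZero (hc i hi)))
    (fun i => (flatOver_tilde_iff R A (P.X i)).2 (hPR i) x)
    (((stA fS x).mapDerivedCategoryFactors.app _).symm ≪≫ (stA fS x).mapDerivedCategory.mapIso
      ((tildeToDIso (R := CommRingCat.of A) P).symm ≪≫ (DCoh.tildeD (CommRingCat.of A)).mapIso e))

theorem isZero_homology [PreservesFiniteLimits (tilde.functor (CommRingCat.of A))] {P : DRing.Cx A} {a b : ℤ}
    (hv : ∀ x : Spec (CommRingCat.of A), DRingKP.Van a b (((stA fS x).mapHomologicalComplex (ComplexShape.up ℤ)).obj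
      ((tCx (R := CommRingCat.of A)).obj P))) (i : ℤ) (hi : i < a) : IsZero (P.homology i) := by
  let T := (tCx (R := CommRingCat.of A)).obj P
  have h1 : IsZero (T.homology i) := KFlat.isZero_of_stalks _ fun x => by
    have h2 : Subsingleton ((stA fS x).obj (T.homology i)) := ModuleCat.subsingleton_of_isZero
      ((isZero_homology_of_van (hv x) (Or.inl hi)).of_iso ((T.sc i).mapHomologyIso (stA fS x)).symm)
    exact @ModuleCat.isZero_of_subsingleton _ _ _ h2
  have h3 : IsZero ((tilde.functor (CommRingCat.of A)).obj (P.homology i)) :=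
    h1.of_iso ((P.sc i).mapHomologyIso (tilde.functor (CommRingCat.of A))).symm
  rw [IsZero.iff_id_eq_zero] at h3 ⊢
  exact (tilde.functor (CommRingCat.of A)).map_injective (by rw [CategoryTheory.Functor.map_id, h3, Functor.map_zero])

theorem flat_opcycles [PreservesFiniteLimits (tilde.functor (CommRingCat.of A))] {P : DRing.Cx A} {a b : ℤ}
    (hPR : ∀ i, Module.Flat R ((rsM R A).obj (P.X i)))
    (hv : ∀ x : Spec (CommRingCat.of A), DRingKP.Van a b (((stA fS x).mapHomologicalComplex (ComplexShape.up ℤ)).obj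
      ((tCx (R := CommRingCat.of A)).obj P))) : Module.Flat R ((rsM R A).obj (P.opcycles a)) := by
  refine (flatOver_tilde_iff R A _).1 ?_
  have h := isFlatOver_opcycles (f := fS) (P := (tCx (R := CommRingCat.of A)).obj P) a
    ((flatOver_tilde_iff R A (P.X a)).2 (hPR a))
    fun x N => (exactAt_iff_isZero_homology _ _).2 (hv x N (a - 1) (Or.inl (by lia)))
  exact isFlatOver_of_iso ((P.sc a).mapOpcyclesIso (tilde.functor (CommRingCat.of A))) h

/-- finite tor amplitude from flatness of the cokernel and exactness below -/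
theorem hasTor_of {M : Dual.D A} {P : DRing.Cx A} {a c : ℤ} (hc : DRing.VanishesAbove P c)
    (hPR : ∀ i, Module.Flat R ((rsM R A).obj (P.X i))) (e : DRing.toD P ≅ M)
    (hz : ∀ i, i < a → IsZero (P.homology i)) (hop : Module.Flat R ((rsM R A).obj (P.opcycles a))) :
    DRing.HasFiniteTorDimCx R ((DRing.restrictD (algebraMap R A)).obj M) := by
  haveI : P.IsGE a := (CochainComplex.isGE_iff P a).2 fun i hi =>
    (HomologicalComplex.exactAt_iff_isZero_homology _ _).2 (hz i hi)
  haveI : QuasiIso (P.πTruncGE a) := (CochainComplex.quasiIso_πTruncGE_iff P a).2 inferInstance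
  haveI : P.IsStrictlyLE c := (CochainComplex.isStrictlyLE_iff P c).2 hc
  refine ⟨a, c, (rsC R A).obj (P.truncGE a), fun i hi => ?_, fun i => ?_,
    ⟨((rsM R A).mapDerivedCategoryFactors.app _).symm ≪≫ (DRing.restrictD (algebraMap R A)).mapIso
      ((asIso (DerivedCategory.Q.map (P.πTruncGE a))).symm ≪≫ e)⟩⟩
  · refine (rsM R A).map_isZero ?_
    rcases hi with hi | hi
    · exact (P.truncGE a).isZero_of_isStrictlyGE a i hi
    · exact (P.truncGE a).isZero_of_isStrictlyLE c i hi
  · rcases lt_trichotomy i a with hi | rfl | hi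
    · haveI := ModuleCat.subsingleton_of_isZero
        ((rsM R A).map_isZero ((P.truncGE a).isZero_of_isStrictlyGE a i hi))
      exact inferInstanceAs (Module.Flat R ((rsM R A).obj ((P.truncGE a).X i)))
    · haveI := hop
      exact Module.Flat.of_linearEquiv ((rsM R A).mapIso (P.truncGEXIsoOpcycles i)).toLinearEquiv
    · haveI := hPR i
      exact Module.Flat.of_linearEquiv ((rsM R A).mapIso (P.truncGEXIso a i hi)).toLinearEquiv

/-- converse direction -/
theorem isRelPerfect_of_sPerf [Module.Flat R A] [PreservesFiniteLimits (tilde.functor (CommRingCat.of A))]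
    {M : Dual.D A} (hpc : ∀ m : ℤ, DCoh.IsPseudoCoherentD m ((DCoh.tildeD (CommRingCat.of A)).obj M))
    (htor : DCoh.LocHasFiniteRelTorDim fS ((DCoh.tildeD (CommRingCat.of A)).obj M)) :
    Dual2.IsRelPerfect R A M := by
  haveI := flat_spec R A
  have h' : DRing.IsPseudoCoherent' A M := pc'_of_forall fun m => (pseudoCoherent_tilde_iff M m).1 (hpc m)
  refine ⟨h', ?_⟩
  obtain ⟨a, b, hab⟩ := exists_uniform fS htor
  obtain ⟨P, c, hc, hP, ⟨e⟩⟩ := pc'_iff_projective.1 h'
  have hPR : ∀ i, Module.Flat R ((rsM R A).obj (P.X i)) := fun i => by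
    letI : Module R (P.X i) := Module.compHom _ (algebraMap R A)
    haveI : IsScalarTower R A (P.X i) := ⟨fun r x y => by rw [Algebra.smul_def, mul_smul]; rfl⟩
    haveI := (hP i).2
    exact Module.Flat.trans R A (P.X i)
  have hv := fun x => van_stalk (b := b) hc hPR e x (hab x)
  exact hasTor_of hc hPR e (isZero_homology hv) (flat_opcycles hPR hv)

end Groth.Agent.RelPerfAffine
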